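import Mathlib.AlgebraicGeometry.Morphisms.Etale
import Mathlib.AlgebraicGeometry.Morphisms.Flat
import Mathlib.RingTheory.Etale.Field
import Mathlib.RingTheory.Jacobson.Ring
import Groth.Agent.DualGeneric.GlobalField
import Groth.Agent.SpQS.DegRank
import Groth.Agent.EtaleSections.Finite

/-!
The scheme of connected components: for a connected scheme of finite type over a field, the spectrum of the
largest étale subalgebra of global functions receives the universal map to an étale scheme.
-/

set_option autoImplicit false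
set_option backward.isDefEq.respectTransparency false
set_option backward.isDefEq.respectTransparency.types false

universe u

open CategoryTheory CategoryTheory.Limits AlgebraicGeometry TopologicalSpace
open scoped TensorProduct

namespace Groth.Agent.EtPi0

variable {k : Type u} [Field k]

/-- A finite reduced algebra without nontrivial idempotents is a field. -/
theorem isField_of_idem {E : Type u} [CommRing E] [Algebra k E] [Module.Finite k E] [Nontrivial E]
    [_root_.IsReduced E] (h : ∀ e : E, IsIdempotentElem e → e = 0 ∨ e = 1) : IsField E := by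
  haveI : IsArtinianRing E := IsArtinianRing.of_finite k E
  refine ⟨⟨0, 1, zero_ne_one⟩, mul_comm, fun {x} hx ↦ ?_⟩
  obtain ⟨n, b, hb⟩ := IsArtinian.exists_pow_succ_smul_dvd x (1 : E)
  simp only [smul_eq_mul, mul_one, Nat.succ_eq_add_one] at hb
  have hpow : ∀ j, x ^ (n + j) * b ^ j = x ^ n := by
    intro j
    induction j with
    | zero => simp
    | succ j ih =>
      calc x ^ (n + (j + 1)) * b ^ (j + 1) = (x ^ (n + 1) * b) * (x ^ j * b ^ j) := by ring
        _ = x ^ n * (x ^ j * b ^ j) := by rw [hb]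
        _ = x ^ (n + j) * b ^ j := by ring
        _ = x ^ n := ih
  have he : IsIdempotentElem (x ^ n * b ^ n) := by
    show _ * _ = _
    calc x ^ n * b ^ n * (x ^ n * b ^ n) = (x ^ (n + n) * b ^ n) * b ^ n := by ring
      _ = x ^ n * b ^ n := by rw [hpow n]
  rcases h _ he with h0 | h1
  · exfalso
    apply hx
    apply eq_zero_of_pow_eq_zero (n := n)
    calc x ^ n = x ^ (n + n) * b ^ n := (hpow n).symm
      _ = x ^ n * (x ^ n * b ^ n) := by ring
      _ = 0 := by rw [h0, mul_zero]
  · cases n with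
    | zero => exact ⟨b, by simpa using hb⟩
    | succ m => exact ⟨x ^ m * b ^ (m + 1), by rw [← h1]; ring⟩

/-- Subalgebras of a connected algebra with a point in a finite extension `L` contain a largest
étale one, which is a field. -/
theorem exists_max_etale {A L : Type u} [CommRing A] [Algebra k A] [Nontrivial A] [Field L] [Algebra k L]
    [Module.Finite k L] (π : A →ₐ[k] L) (h : ∀ e : A, IsIdempotentElem e → e = 0 ∨ e = 1) :
    ∃ E : Subalgebra k A, IsField E ∧ Algebra.Etale k E ∧
      ∀ (R : Type u) [CommRing R] [Algebra k R] [Algebra.Etale k R] (φ : R →ₐ[k] A), φ.range ≤ E := by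
  classical
  have hfin : ∀ (R : Type u) [CommRing R] [Algebra k R] [Algebra.Etale k R], Module.Finite k R :=
    fun R _ _ _ ↦ Algebra.FormallyUnramified.finite_of_free k R
  have hrange : ∀ (R : Type u) [CommRing R] [Algebra k R] [Algebra.Etale k R] (φ : R →ₐ[k] A),
      Module.Finite k φ.range ∧ Algebra.Etale k φ.range := by
    intro R _ _ _ φ
    haveI := hfin R
    haveI : Module.Finite k φ.range :=
      Module.Finite.of_surjective φ.rangeRestrict.toLinearMap φ.rangeRestrict_surjective
    haveI : Algebra.FormallyUnramified k φ.range :=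
      Algebra.FormallyUnramified.of_surjective φ.rangeRestrict φ.rangeRestrict_surjective
    haveI : Algebra.FormallyEtale k φ.range := Algebra.FormallyEtale.of_formallyUnramified_of_field k φ.range
    exact ⟨inferInstance, { finitePresentation :=
      (Algebra.FinitePresentation.of_finiteType (R := k) (A := φ.range)).mp inferInstance }⟩
  have hfield : ∀ E : Subalgebra k A, Algebra.Etale k E → IsField E ∧ Module.finrank k E ≤ Module.finrank k L := by
    intro E hE
    haveI := hE
    haveI := hfin E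
    haveI : _root_.IsReduced E := Algebra.FormallyUnramified.isReduced_of_field k E
    have hf : IsField E := isField_of_idem (k := k) fun e he ↦
      (h (e : A) (congrArg Subtype.val he)).imp (fun h' ↦ Subtype.ext h') fun h' ↦ Subtype.ext h'
    letI := hf.toField
    exact ⟨hf, LinearMap.finrank_le_finrank_of_injective (f := (π.comp E.val).toLinearMap)
      (π.comp E.val).toRingHom.injective⟩
  let P : ℕ → Prop := fun n ↦ ∃ E : Subalgebra k A, Algebra.Etale k E ∧ Module.finrank k E = n
  have hP : ∃ n, P n := ⟨_, (Algebra.ofId k A).range, (hrange k (Algebra.ofId k A)).2, rfl⟩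
  obtain ⟨n, hn⟩ := hP
  obtain ⟨E, hE, hEn⟩ := Nat.findGreatest_spec (P := P)
    (show n ≤ Module.finrank k L by obtain ⟨E, hE, rfl⟩ := hn; exact (hfield E hE).2) hn
  refine ⟨E, (hfield E hE).1, hE, fun R _ _ _ φ ↦ ?_⟩
  haveI := hE
  haveI : Algebra.Etale k (E ⊗[k] R) := Algebra.Etale.comp k E (E ⊗[k] R)
  obtain ⟨hfin', het⟩ := hrange _ (Algebra.TensorProduct.productMap E.val φ)
  have hr : (Algebra.TensorProduct.productMap E.val φ).range = E ⊔ φ.range := by
    rw [Algebra.TensorProduct.productMap_range, Subalgebra.range_val]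
  rw [hr] at hfin' het
  have hle : Module.finrank k ↥(E ⊔ φ.range : Subalgebra k A) ≤ Module.finrank k E := by
    rw [hEn]
    exact Nat.le_findGreatest (hfield _ het).2 ⟨_, het, rfl⟩
  haveI := hfin'
  have heq : E = E ⊔ φ.range := Subalgebra.eq_of_le_of_finrank_le le_sup_left hle
  rw [heq]
  exact le_sup_right

/-- The connected case. -/
theorem exists_connected (C : Scheme.{u}) (f : C ⟶ Spec (CommRingCat.of k)) [LocallyOfFiniteType f]
    [ConnectedSpace C] :
    ∃ (P : Scheme.{u}) (g : P ⟶ Spec (CommRingCat.of k)) (q : C ⟶ P), Etale g ∧ q ≫ g = f ∧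
      (∀ (Y : Scheme.{u}) (gY : Y ⟶ Spec (CommRingCat.of k)) (h : C ⟶ Y), Etale gY → h ≫ gY = f →
        ∃! t : P ⟶ Y, t ≫ gY = g ∧ q ≫ t = h) ∧ Flat q ∧ Surjective q ∧ Subsingleton P := by
  classical
  let sf := (Scheme.ΓSpecIso (CommRingCat.of k)).inv ≫ f.appTop
  letI algA : Algebra k Γ(C, ⊤) := sf.hom.toAlgebra
  haveI : Nontrivial Γ(C, ⊤) := by
    haveI : Nonempty (⊤ : C.Opens) := ⟨⟨Classical.arbitrary C, trivial⟩⟩
    infer_instance
  -- a point in a finite extension of `k`
  obtain ⟨_, ⟨U, hU, rfl⟩, hcU, -⟩ := C.isBasis_affineOpens.exists_subset_of_mem_open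
    (Set.mem_univ (Classical.arbitrary C)) isOpen_univ
  change C.Opens at U
  haveI : IsAffine U.toScheme := hU
  let B := Γ(U.toScheme, ⊤)
  let sB := (Scheme.ΓSpecIso (CommRingCat.of k)).inv ≫ (U.ι ≫ f).appTop
  letI algB : Algebra k B := sB.hom.toAlgebra
  haveI : Algebra.FiniteType k B := by
    rw [← RingHom.finiteType_algebraMap]
    show sB.hom.FiniteType
    have := HasRingHomProperty.appTop (P := @LocallyOfFiniteType) (U.ι ≫ f) inferInstance
    simp only [sB, CommRingCat.hom_comp]
    exact this.comp (RingHom.FiniteType.of_surjective _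
      (ConcreteCategory.bijective_of_isIso (Scheme.ΓSpecIso (CommRingCat.of k)).inv).2)
  haveI : Nontrivial B := by
    haveI : Nonempty (⊤ : U.toScheme.Opens) := ⟨⟨⟨Classical.arbitrary C, hcU⟩, trivial⟩⟩
    infer_instance
  obtain ⟨m, hm⟩ := Ideal.exists_maximal B
  haveI := hm
  letI : Field (B ⧸ m) := Ideal.Quotient.field m
  haveI : Algebra.FiniteType k (B ⧸ m) :=
    Algebra.FiniteType.of_surjective (Ideal.Quotient.mkₐ k m) Ideal.Quotient.mk_surjective
  haveI : Module.Finite k (B ⧸ m) := finite_of_finite_type_of_isJacobsonRing k (B ⧸ m)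
  let π : Γ(C, ⊤) →ₐ[k] B ⧸ m := (Ideal.Quotient.mkₐ k m).comp
    { toRingHom := U.ι.appTop.hom
      commutes' := fun r ↦ by
        show U.ι.appTop.hom (sf.hom r) = sB.hom r
        simp only [sf, sB, Scheme.Hom.comp_appTop, CommRingCat.hom_comp, RingHom.comp_apply] }
  obtain ⟨E, hEfield, hEet, hEmax⟩ := exists_max_etale π
    (fun e he ↦ DualGeneric.eq_zero_or_one_of_idempotent he)
  haveI := hEet
  letI : Field E := hEfield.toField
  let incl : CommRingCat.of E ⟶ Γ(C, ⊤) := CommRingCat.ofHom E.val.toRingHom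
  let str : CommRingCat.of k ⟶ CommRingCat.of E := CommRingCat.ofHom (algebraMap k E)
  let q : C ⟶ Spec (CommRingCat.of E) := C.toSpecΓ ≫ Spec.map incl
  have hq : q.appTop = (Scheme.ΓSpecIso (CommRingCat.of E)).hom ≫ incl := by
    simp only [q, Scheme.Hom.comp_appTop, Scheme.toSpecΓ_appTop]
    rw [Scheme.ΓSpecIso_naturality]
  have hepi : ∀ {Z : Scheme.{u}} [IsAffine Z] (a b : Spec (CommRingCat.of E) ⟶ Z), q ≫ a = q ≫ b → a = b := by
    intro Z _ a b hab
    refine ext_of_isAffine ?_
    have := congrArg Scheme.Hom.appTop hab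
    simp only [Scheme.Hom.comp_appTop, hq, ← Category.assoc] at this
    haveI hmono : Mono incl := ConcreteCategory.mono_of_injective _ Subtype.val_injective
    replace this := (cancel_mono incl).mp this
    exact (cancel_mono (Scheme.ΓSpecIso (CommRingCat.of E)).hom).mp this
  have hqg : q ≫ Spec.map str = f := by
    have hs : str ≫ incl = sf := rfl
    simp only [q, Category.assoc, ← Spec.map_comp, hs]
    simp only [sf, Spec.map_comp, ← Category.assoc, ← Scheme.toSpecΓ_naturality]
    rw [Category.assoc, show (Spec (CommRingCat.of k)).toSpecΓ ≫ Spec.map (Scheme.ΓSpecIso (CommRingCat.of k)).inv = 𝟙 _ from ?_,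
      Category.comp_id]
    rw [← SpecMap_ΓSpecIso_hom, ← Spec.map_comp, Iso.inv_hom_id, Spec.map_id]
  haveI : Subsingleton (Spec (CommRingCat.of E)) := inferInstanceAs (Subsingleton (PrimeSpectrum E))
  haveI : Etale (Spec.map str) := by
    rw [HasRingHomProperty.Spec_iff (P := @Etale)]
    exact RingHom.etale_algebraMap.mpr hEet
  refine ⟨Spec (CommRingCat.of E), Spec.map str, q, inferInstance, hqg, ?_, inferInstance,
    ⟨fun z ↦ ⟨Classical.arbitrary C, Subsingleton.elim _ _⟩⟩, inferInstance⟩
  intro Y gY h hgY hh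
  haveI := hgY
  haveI : LocallyQuasiFinite gY := EtaleSections.locallyQuasiFinite_of_unramified gY
  haveI : DiscreteTopology Y := SpQS.discreteTopology_of_lqf gY
  let y := h (Classical.arbitrary C)
  have hconst : ∀ c : C, h c = y := fun c ↦
    (isPreconnected_range h.continuous).subsingleton ⟨c, rfl⟩ ⟨_, rfl⟩
  obtain ⟨_, ⟨V, hV, rfl⟩, hyV, hVsub⟩ := Y.isBasis_affineOpens.exists_subset_of_mem_open
    (Set.mem_singleton y) (isOpen_discrete {y})
  change Y.Opens at V
  haveI : IsAffine V.toScheme := hV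
  let h' : C ⟶ V.toScheme := IsOpenImmersion.lift V.ι h (by
    rw [Scheme.Opens.range_ι]
    rintro _ ⟨c, rfl⟩
    rw [hconst c]
    exact hyV)
  have hh' : h' ≫ V.ι = h := IsOpenImmersion.lift_fac _ _ _
  let sV := (Scheme.ΓSpecIso (CommRingCat.of k)).inv ≫ (V.ι ≫ gY).appTop
  letI : Algebra k Γ(V.toScheme, ⊤) := sV.hom.toAlgebra
  haveI : Algebra.Etale k Γ(V.toScheme, ⊤) := by
    rw [← RingHom.etale_algebraMap]
    show sV.hom.Etale
    have := HasRingHomProperty.appTop (P := @Etale) (V.ι ≫ gY) inferInstance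
    simp only [sV, CommRingCat.hom_comp]
    exact RingHom.Etale.stableUnderComposition _ _
      (RingHom.Etale.of_bijective (ConcreteCategory.bijective_of_isIso (Scheme.ΓSpecIso (CommRingCat.of k)).inv)) this
  let φ : Γ(V.toScheme, ⊤) →ₐ[k] Γ(C, ⊤) :=
    { toRingHom := h'.appTop.hom
      commutes' := fun r ↦ by
        show (sV ≫ h'.appTop).hom r = sf.hom r
        simp only [sV, sf, Category.assoc, ← Scheme.Hom.comp_appTop, reassoc_of% hh', hh] }
  let ψ : Γ(V.toScheme, ⊤) ⟶ CommRingCat.of E :=
    CommRingCat.ofHom (φ.toRingHom.codRestrict E fun r ↦ hEmax _ φ ⟨r, rfl⟩)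
  let t : Spec (CommRingCat.of E) ⟶ Y := Spec.map ψ ≫ V.toScheme.isoSpec.inv ≫ V.ι
  have hqt : q ≫ t = h := by
    have hψ : ψ ≫ incl = h'.appTop := rfl
    simp only [q, t, Category.assoc, ← Spec.map_comp_assoc, hψ]
    rw [← Scheme.toSpecΓ_naturality_assoc, ← Scheme.isoSpec_hom, Iso.hom_inv_id_assoc, hh']
  refine ⟨t, ⟨hepi _ _ (by rw [← Category.assoc, hqt, hh, hqg]), hqt⟩, fun t' ⟨_, ht'⟩ ↦ ?_⟩
  have hmem : ∀ t'' : Spec (CommRingCat.of E) ⟶ Y, q ≫ t'' = h → Set.range t'' ⊆ Set.range V.ι := by
    intro t'' e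
    rintro _ ⟨z, rfl⟩
    obtain rfl : z = q (Classical.arbitrary C) := Subsingleton.elim _ _
    rw [Scheme.Opens.range_ι, ← Scheme.Hom.comp_apply, e]
    exact hyV
  rw [← IsOpenImmersion.lift_fac V.ι t' (hmem t' ht'), ← IsOpenImmersion.lift_fac V.ι t (hmem t hqt)]
  congr 1
  refine hepi _ _ ((cancel_mono V.ι).mp ?_)
  refine (Category.assoc _ _ _).trans (Eq.trans ?_ (Category.assoc _ _ _).symm)
  rw [IsOpenImmersion.lift_fac, IsOpenImmersion.lift_fac, ht', hqt]

end Groth.Agent.EtPi0
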